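import Cfsg.Agent.Lib.Helper17.ReeTor.Pkgs

set_option autoImplicit false

/-!
# More packages for the tori of the small Ree groups (abstract finite group theory)

`q = 3 ^ (2 m + 1)`, `Q = q ^ 2 - q + 1`, `|G| = q ^ 3 (q ^ 3 + 1) (q - 1)`.
-/

universe u

namespace Cfsg.Agent.Lib.Helper17.ReeTor

/-- (Z3a) the number of elements of order divisible by `3`, from the structure of the Borel
subgroup `U ⋊ H` (`U` a TI Sylow `3`-subgroup, `H` abelian of order `q - 1` with involution `t`) -/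
def PkgZ3a : Prop :=
  PkgTI.{u} →
  ∀ (G : Type u) [Group G] [Finite G] (m q : ℕ) (U H : Subgroup G) (t : G),
    1 ≤ m → q = 3 ^ (2 * m + 1) →
    Nat.card G = q ^ 3 * (q ^ 3 + 1) * (q - 1) →
    Nat.card ↥U = q ^ 3 → Nat.card ↥H = q - 1 →
    (∀ a ∈ H, ∀ b ∈ H, a * b = b * a) →
    (∀ h ∈ H, ∀ u ∈ U, h * u * h⁻¹ ∈ U) →
    (∀ x ∈ U, x ∈ H → x = 1) →
    t ∈ H → t * t = 1 → t ≠ 1 →
    (∀ h ∈ H, h * h = 1 → h = 1 ∨ h = t) →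
    (∀ h ∈ H, ∀ u ∈ U, h * u = u * h → u = 1 ∨ h * h = 1) →
    Nat.card {u : G // u ∈ U ∧ t * u = u * t} = q →
    (∀ g : G, ∀ u ∈ U, u ≠ 1 → g * u * g⁻¹ ∈ U → ∃ v ∈ U, ∃ h ∈ H, g = v * h) →
    Nat.card {g : G // 3 ∣ orderOf g} = (q ^ 3 + 1) * (2 * q ^ 3 - q ^ 2 - 1)

/-- (Z3b) the elements of order divisible by `3` have order `3`, `6` or `9`, with their numbers -/
def PkgZ3b : Prop :=
  PkgTI.{u} →
  ∀ (G : Type u) [Group G] [Finite G] (m q : ℕ) (U H : Subgroup G) (t : G),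
    1 ≤ m → q = 3 ^ (2 * m + 1) →
    Nat.card G = q ^ 3 * (q ^ 3 + 1) * (q - 1) →
    Nat.card ↥U = q ^ 3 → Nat.card ↥H = q - 1 →
    (∀ a ∈ H, ∀ b ∈ H, a * b = b * a) →
    (∀ h ∈ H, ∀ u ∈ U, h * u * h⁻¹ ∈ U) →
    (∀ x ∈ U, x ∈ H → x = 1) →
    t ∈ H → t * t = 1 → t ≠ 1 →
    (∀ h ∈ H, h * h = 1 → h = 1 ∨ h = t) →
    (∀ h ∈ H, ∀ u ∈ U, h * u = u * h → u = 1 ∨ h * h = 1) →
    Nat.card {u : G // u ∈ U ∧ t * u = u * t} = q →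
    (∀ g : G, ∀ u ∈ U, u ≠ 1 → g * u * g⁻¹ ∈ U → ∃ v ∈ U, ∃ h ∈ H, g = v * h) →
    Nat.card {u : G // u ∈ U ∧ orderOf u = 3} = q ^ 2 - 1 →
    (∀ u ∈ U, u ^ 9 = 1) →
    (∀ u ∈ U, t * u = u * t → u ^ 3 = 1) →
    (∀ g : G, 3 ∣ orderOf g → orderOf g = 3 ∨ orderOf g = 6 ∨ orderOf g = 9) ∧
    Nat.card {g : G // orderOf g = 3} = (q ^ 2 - 1) * (q ^ 3 + 1) ∧
    Nat.card {g : G // orderOf g = 6} = q ^ 2 * (q - 1) * (q ^ 3 + 1) ∧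
    Nat.card {g : G // orderOf g = 9} = q ^ 2 * (q - 1) * (q ^ 3 + 1)

/-- (COV) the partition of the elements by their orders -/
def PkgCover : Prop :=
  ∀ (G : Type u) [Group G] [Finite G] (m q : ℕ), 1 ≤ m → q = 3 ^ (2 * m + 1) →
    Nat.card G = q ^ 3 * (q ^ 3 + 1) * (q - 1) →
    (∀ x : G, orderOf x ≠ 4) →
    (∀ s : G, orderOf s = 2 → Nat.card ↥(Subgroup.centralizer ({s} : Set G)) = q * (q ^ 2 - 1)) →
    (∀ p : ℕ, p.Prime → p ≠ 2 → p ∣ q - 1 → ∀ x : G, orderOf x = p →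
      Nat.card ↥(Subgroup.centralizer ({x} : Set G)) = q - 1) →
    (∀ p : ℕ, p.Prime → p ≠ 2 → p ∣ q + 1 → ∀ x : G, orderOf x = p →
      Nat.card ↥(Subgroup.centralizer ({x} : Set G)) = q + 1) →
    (∀ p : ℕ, p.Prime → p ∣ q ^ 2 - q + 1 → ∀ x w : G, orderOf x = p → w * x = x * w →
      w ^ 3 = 1 → w = 1) →
    (∀ p : ℕ, p.Prime → p ∣ q ^ 2 - q + 1 → ∀ y x : G, orderOf y = p → x * y = y * x →
      x ^ (q ^ 2 - q + 1) = 1) ∧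
    (∀ g : G, g = 1 ∨ orderOf g = 2 ∨ 3 ∣ orderOf g ∨ (g ^ (q - 1) = 1 ∧ g ^ 2 ≠ 1) ∨
      (g ^ (q + 1) = 1 ∧ g ^ 2 ≠ 1) ∨ (g ≠ 1 ∧ g ^ (q ^ 2 - q + 1) = 1)) ∧
    Nat.card G = 1 + Nat.card {g : G // orderOf g = 2} + Nat.card {g : G // 3 ∣ orderOf g} +
      Nat.card {g : G // g ^ (q - 1) = 1 ∧ g ^ 2 ≠ 1} +
      Nat.card {g : G // g ^ (q + 1) = 1 ∧ g ^ 2 ≠ 1} +
      Nat.card {g : G // g ≠ 1 ∧ g ^ (q ^ 2 - q + 1) = 1}

/-- (AR4) the number of elements of order dividing `Q` -/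
def PkgAR4 : Prop :=
  ∀ m q nG nI n3 nH nA nE : ℕ, 1 ≤ m → q = 3 ^ (2 * m + 1) →
    nG = q ^ 3 * (q ^ 3 + 1) * (q - 1) →
    nI * (q * (q ^ 2 - 1)) = nG →
    n3 = (q ^ 3 + 1) * (2 * q ^ 3 - q ^ 2 - 1) →
    nH * (2 * (q - 1)) = (q - 3) * nG →
    nA * (6 * (q + 1)) = (q - 3) * nG →
    nG = 1 + nI + n3 + nH + nA + nE →
    3 * nE = q ^ 4 * (q ^ 2 - 1) * (q - 2)

/-- the local structure of the centraliser `C` of an element `y` of prime order dividing `Q`: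
cyclic, a Hall subgroup of order dividing `Q`, the centraliser of each of its non-trivial
elements, containing a conjugate of every element of prime order dividing `|C|`, of index at
most `6` in its normaliser -/
def TorLocal (G : Type u) [Group G] (q : ℕ) (y : G) : Prop :=
  IsCyclic ↥(Subgroup.centralizer ({y} : Set G)) ∧
  Nat.card ↥(Subgroup.centralizer ({y} : Set G)) ∣ q ^ 2 - q + 1 ∧
  Nat.Coprime (Nat.card ↥(Subgroup.centralizer ({y} : Set G)))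
    ((q ^ 2 - q + 1) / Nat.card ↥(Subgroup.centralizer ({y} : Set G))) ∧
  (∀ x ∈ Subgroup.centralizer ({y} : Set G), x ≠ 1 →
    Subgroup.centralizer ({x} : Set G) = Subgroup.centralizer ({y} : Set G)) ∧
  (∀ p' : ℕ, p'.Prime → p' ∣ Nat.card ↥(Subgroup.centralizer ({y} : Set G)) →
    ∀ w : G, orderOf w = p' → ∃ a : G, a * w * a⁻¹ ∈ Subgroup.centralizer ({y} : Set G)) ∧
  ∃ n : ℕ, 1 ≤ n ∧ n ≤ 6 ∧
    Nat.card ↥(Subgroup.normalizer (Subgroup.centralizer ({y} : Set G) : Set G)) =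
      n * Nat.card ↥(Subgroup.centralizer ({y} : Set G))

/-- (TOR1) the local structure of the centralisers of the elements of prime order dividing `Q` -/
def PkgTor1 : Prop :=
  PkgOrb.{u} → PkgAR0 →
  ∀ (G : Type u) [Group G] [Finite G] (m q : ℕ), 1 ≤ m → q = 3 ^ (2 * m + 1) →
    Nat.card G = q ^ 3 * (q ^ 3 + 1) * (q - 1) →
    (∀ p : ℕ, p.Prime → p ∣ q ^ 2 - q + 1 → ∀ y a b : G, orderOf y = p → a * y = y * a →
      b * y = y * b → a * b = b * a) →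
    (∀ p : ℕ, p.Prime → p ∣ q ^ 2 - q + 1 → ∀ y w : G, orderOf y = p → w * y = y * w →
      w ^ p = 1 → w ∈ Subgroup.zpowers y) →
    (∀ p : ℕ, p.Prime → p ∣ q ^ 2 - q + 1 → ∀ (y h : G) (k : ℕ), orderOf y = p →
      h * y * h⁻¹ = y ^ k → y ^ (k ^ 6) = y) →
    (∀ p : ℕ, p.Prime → p ∣ q ^ 2 - q + 1 → ∀ y x : G, orderOf y = p → x * y = y * x →
      x ^ (q ^ 2 - q + 1) = 1) →
    (∀ (p : ℕ) [Fact p.Prime], p ∣ q ^ 2 - q + 1 → ∀ P : Sylow p G, IsCyclic ↥(P : Subgroup G)) →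
    ∀ p : ℕ, p.Prime → p ∣ q ^ 2 - q + 1 → ∀ y : G, orderOf y = p → TorLocal G q y

/-- (TOR2) the two classes of tori of orders `q ± r + 1`, from the local structure and the
number of elements of order dividing `Q` -/
def PkgTor2 : Prop :=
  PkgTI.{u} → PkgAR0 → PkgAR1 → PkgAR2 → PkgAR3 →
  ∀ (G : Type u) [Group G] [Finite G] (m q r : ℕ), 1 ≤ m → q = 3 ^ (2 * m + 1) →
    r = 3 ^ (m + 1) →
    Nat.card G = q ^ 3 * (q ^ 3 + 1) * (q - 1) →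
    3 * Nat.card {g : G // g ≠ 1 ∧ g ^ (q ^ 2 - q + 1) = 1} = q ^ 4 * (q ^ 2 - 1) * (q - 2) →
    (∀ p : ℕ, p.Prime → p ∣ q ^ 2 - q + 1 → ∀ y : G, orderOf y = p → TorLocal G q y) →
    ∃ C₁ C₂ : Subgroup G, IsCyclic ↥C₁ ∧ IsCyclic ↥C₂ ∧
      Nat.card ↥C₁ = q + r + 1 ∧ Nat.card ↥C₂ = q - r + 1 ∧
      Nat.card ↥(Subgroup.normalizer (C₁ : Set G)) = 6 * (q + r + 1) ∧
      Nat.card ↥(Subgroup.normalizer (C₂ : Set G)) = 6 * (q - r + 1) ∧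
      (∀ x ∈ C₁, x ≠ 1 → Subgroup.centralizer ({x} : Set G) = C₁) ∧
      (∀ x ∈ C₂, x ≠ 1 → Subgroup.centralizer ({x} : Set G) = C₂) ∧
      (∀ g : G, g ≠ 1 → g ^ (q ^ 2 - q + 1) = 1 →
        ∃ a : G, a * g * a⁻¹ ∈ C₁ ∨ a * g * a⁻¹ ∈ C₂)

end Cfsg.Agent.Lib.Helper17.ReeTor
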