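import Mathlib

set_option autoImplicit false

/-!
# Packages for the tori of order `q ± 3 ^ (m + 1) + 1` of the small Ree groups

Statements of self-contained lemmas (linear algebra on `7 × 7` matrices over a finite field,
a counting lemma for families of conjugates, arithmetic) used for S1158, S1159, S2357.
-/

universe u

namespace Cfsg.Agent.Lib.Helper17.ReeTor

/-- (LA1) the centraliser of an element of prime order `p` in the `7 × 7` matrices over a finite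
field with `q` elements is commutative, when `i = 6` is the only `1 ≤ i ≤ 7` with
`p ∣ q ^ i - 1` -/
def PkgLA1 : Prop :=
  ∀ (K : Type u) [Field K] [Fintype K] (p : ℕ) [Fact p.Prime], ¬ p ∣ Fintype.card K →
    (∀ i, 0 < i → i ≤ 7 → p ∣ Fintype.card K ^ i - 1 → i = 6) →
    ∀ z a b : Matrix (Fin 7) (Fin 7) K, z ^ p = 1 → z ≠ 1 → a * z = z * a → b * z = z * b →
      a * b = b * a

/-- (LA2) an invertible matrix normalising the group generated by such an element `z` acts on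
it as a power map of order dividing `6` -/
def PkgLA2 : Prop :=
  ∀ (K : Type u) [Field K] [Fintype K] (p : ℕ) [Fact p.Prime], ¬ p ∣ Fintype.card K →
    (∀ i, 0 < i → i ≤ 7 → p ∣ Fintype.card K ^ i - 1 → i = 6) →
    ∀ (z h h' : Matrix (Fin 7) (Fin 7) K) (k : ℕ), z ^ p = 1 → z ≠ 1 → h * h' = 1 →
      h * z = z ^ k * h → z ^ (k ^ 6) = z

/-- (ORB) at most six powers `y ^ k` of an element of prime order with `y ^ (k ^ 6) = y` -/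
def PkgOrb : Prop :=
  ∀ (G : Type u) [Group G] [Finite G] (p : ℕ) [Fact p.Prime] (y : G) (S : Set G),
    orderOf y = p → (∀ w ∈ S, ∃ k : ℕ, w = y ^ k ∧ y ^ (k ^ 6) = y) → Nat.card ↥S ≤ 6

/-- (TI) counting the union of the conjugates of a set `X` whose fusion is controlled by a
subgroup `M` -/
def PkgTI : Prop :=
  ∀ (G : Type u) [Group G] [Finite G] (M : Subgroup G) (X : Set G),
    (∀ g ∈ M, ∀ x ∈ X, g * x * g⁻¹ ∈ X) →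
    (∀ g : G, ∀ x ∈ X, g * x * g⁻¹ ∈ X → g ∈ M) →
    Nat.card {y : G // ∃ g : G, ∃ x ∈ X, y = g * x * g⁻¹} * Nat.card ↥M =
      Nat.card ↥X * Nat.card G

/-- (AR0) arithmetic of `Q = q ^ 2 - q + 1`, `q = 3 ^ (2 m + 1)`, `r = 3 ^ (m + 1)` -/
def PkgAR0 : Prop :=
  ∀ m q r : ℕ, 1 ≤ m → q = 3 ^ (2 * m + 1) → r = 3 ^ (m + 1) →
    q ^ 2 - q + 1 = (q + r + 1) * (q - r + 1) ∧ r < q ∧
    (∀ d : ℕ, d ∣ q ^ 2 - q + 1 → d ≠ 1 → 7 ≤ d) ∧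
    Nat.Coprime (q ^ 2 - q + 1) q ∧ Nat.Coprime (q ^ 2 - q + 1) (q - 1) ∧
    Nat.Coprime (q ^ 2 - q + 1) (q + 1) ∧ Nat.Coprime (q + r + 1) (q - r + 1)

/-- (AR1) two classes of tori: the orders are `q ± r + 1` and the normalisers have index `6` -/
def PkgAR1 : Prop :=
  ∀ m q r c₁ c₂ n₁ n₂ j₁ j₂ : ℕ, 1 ≤ m → q = 3 ^ (2 * m + 1) → r = 3 ^ (m + 1) →
    7 ≤ c₁ → 7 ≤ c₂ → c₁ * c₂ = q ^ 2 - q + 1 → 1 ≤ n₁ → n₁ ≤ 6 → 1 ≤ n₂ → n₂ ≤ 6 →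
    q ^ 3 * (q ^ 3 + 1) * (q - 1) = n₁ * c₁ * j₁ → q ^ 3 * (q ^ 3 + 1) * (q - 1) = n₂ * c₂ * j₂ →
    3 * ((c₁ - 1) * j₁ + (c₂ - 1) * j₂) = q ^ 4 * (q ^ 2 - 1) * (q - 2) →
    n₁ = 6 ∧ n₂ = 6 ∧
      ((c₁ = q + r + 1 ∧ c₂ = q - r + 1) ∨ (c₁ = q - r + 1 ∧ c₂ = q + r + 1))

/-- (AR2) a single class of tori is impossible -/
def PkgAR2 : Prop :=
  ∀ m q c₁ n₁ j₁ : ℕ, 1 ≤ m → q = 3 ^ (2 * m + 1) → c₁ = q ^ 2 - q + 1 → 1 ≤ n₁ → n₁ ≤ 6 →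
    q ^ 3 * (q ^ 3 + 1) * (q - 1) = n₁ * c₁ * j₁ →
    3 * ((c₁ - 1) * j₁) = q ^ 4 * (q ^ 2 - 1) * (q - 2) → False

/-- (AR3) three classes of tori are impossible -/
def PkgAR3 : Prop :=
  ∀ m q c₁ c₂ c₃ n₁ n₂ n₃ j₁ j₂ j₃ : ℕ, 1 ≤ m → q = 3 ^ (2 * m + 1) →
    7 ≤ c₁ → 7 ≤ c₂ → 7 ≤ c₃ → 1 ≤ n₁ → n₁ ≤ 6 → 1 ≤ n₂ → n₂ ≤ 6 → 1 ≤ n₃ → n₃ ≤ 6 →
    q ^ 3 * (q ^ 3 + 1) * (q - 1) = n₁ * c₁ * j₁ → q ^ 3 * (q ^ 3 + 1) * (q - 1) = n₂ * c₂ * j₂ →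
    q ^ 3 * (q ^ 3 + 1) * (q - 1) = n₃ * c₃ * j₃ →
    3 * ((c₁ - 1) * j₁ + (c₂ - 1) * j₂ + (c₃ - 1) * j₃) ≤ q ^ 4 * (q ^ 2 - 1) * (q - 2) → False

end Cfsg.Agent.Lib.Helper17.ReeTor
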